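/-
Jordan's equation, abstractly.

* `AbSub H B`: an abelian subgroup of index at most `B` in `H`
* `abelian_of_jordan`: a group in which centralisers of non-central elements are abelian-by-bounded,
  with bounded automisers of their large abelian subgroups, is abelian-by-bounded
-/
import Cfsg.Agent.EqLemmas
import Mathlib.GroupTheory.Index
import Mathlib.GroupTheory.GroupAction.Quotient
import Mathlib.GroupTheory.GroupAction.Defs
import Mathlib.Tactic.Linarith
import Mathlib.Data.Nat.Factorial.Basic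

set_option autoImplicit false
set_option linter.style.haveILetI false
set_option linter.unusedSectionVars false

namespace Cfsg.Agent.JordanBound

variable {G : Type*} [Group G] [Finite G]

theorem relIndex_ne_zero' (A H : Subgroup G) : A.relIndex H ≠ 0 :=
  Subgroup.index_ne_zero_of_finite (H := A.subgroupOf H)

/-- `H` has an abelian subgroup of index at most `B`. -/
def AbSub (H : Subgroup G) (B : ℕ) : Prop :=
  ∃ A : Subgroup G, A ≤ H ∧ (∀ a ∈ A, ∀ b ∈ A, Commute a b) ∧ A.relIndex H ≤ B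

theorem AbSub.mono {H : Subgroup G} {B B' : ℕ} (h : AbSub H B) (hB : B ≤ B') : AbSub H B' := by
  obtain ⟨A, hA, hc, hi⟩ := h
  exact ⟨A, hA, hc, hi.trans hB⟩

/-- Passing to a subgroup of a group and up from a subgroup of bounded index. -/
theorem AbSub.of_le {U H H' : Subgroup G} {B N : ℕ} (hUH : U ≤ H) (hUH' : U ≤ H') (h : AbSub H' B)
    (hN : U.relIndex H ≤ N) : AbSub H (B * N) := by
  obtain ⟨A, hA, hc, hi⟩ := h
  refine ⟨A ⊓ U, inf_le_right.trans hUH, fun a ha b hb => hc a ha.1 b hb.1, ?_⟩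
  rw [← Subgroup.relIndex_mul_relIndex (A ⊓ U) U H inf_le_right hUH, Subgroup.inf_relIndex_right]
  refine Nat.mul_le_mul ((Subgroup.relIndex_le_of_le_right hUH' ?_).trans hi) hN
  exact relIndex_ne_zero' _ _

/-- Orbit counting with divisibility. -/
theorem card_dvd_sum {H X : Type*} [Group H] [Finite H] [Fintype X] [MulAction H X] (f : X → ℕ)
    (L : ℕ) (hf : ∀ (h : H) x, f (h • x) = f x)
    (hd : ∀ x, Nat.card H ∣ L * f x * Nat.card (MulAction.orbit H x)) :
    Nat.card H ∣ L * ∑ x, f x := by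
  classical
  let π : X → MulAction.orbitRel.Quotient H X := Quotient.mk''
  haveI := Fintype.ofFinite (MulAction.orbitRel.Quotient H X)
  rw [← Finset.sum_fiberwise_of_maps_to (t := Finset.univ) (g := π) (fun x _ => Finset.mem_univ _),
    Finset.mul_sum]
  refine Finset.dvd_sum fun q _ => ?_
  obtain ⟨x, rfl⟩ := Quotient.mk''_surjective q
  have hmem : ∀ y, π y = π x ↔ y ∈ MulAction.orbit H x := fun y =>
    Quotient.eq''.trans MulAction.orbitRel_apply
  rw [Finset.sum_congr rfl (g := fun _ => f x) fun y hy => by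
    obtain ⟨h, rfl⟩ := (hmem y).1 (Finset.mem_filter.1 hy).2
    exact hf h x, Finset.sum_const, smul_eq_mul]
  have hcard : (Finset.univ.filter fun y => π y = π x).card = Nat.card (MulAction.orbit H x) := by
    rw [Nat.card_coe_set_eq, ← Set.ncard_coe_finset]
    congr 1
    ext y
    simp [hmem y]
  refine (hd x).trans (dvd_of_eq ?_)
  show _ = L * ((Finset.univ.filter fun y => π y = π x).card * f x)
  rw [hcard]
  ring

/-- A gap between the values of a small set. -/
theorem exists_gap (F : ℕ → ℕ) (hF : ∀ B, B ≤ F B) :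
    ∀ (R B₀ : ℕ) (s : Finset ℕ), s.card ≤ R →
      ∃ B, B₀ ≤ B ∧ B ≤ F^[R] B₀ ∧ ∀ x ∈ s, x ≤ B ∨ F B < x := by
  intro R
  induction R with
  | zero =>
    intro B₀ s hs
    rw [Nat.le_zero, Finset.card_eq_zero] at hs
    subst hs
    exact ⟨B₀, le_rfl, le_rfl, by simp⟩
  | succ R ih =>
    intro B₀ s hs
    by_cases h : ∀ x ∈ s, x ≤ B₀ ∨ F B₀ < x
    · exact ⟨B₀, le_rfl, Function.id_le_iterate_of_id_le hF (R + 1) B₀, h⟩
    push Not at h
    obtain ⟨x, hx, -, hx2⟩ := h
    obtain ⟨B, h1, h2, h3⟩ := ih (F B₀) (s.erase x) (by rw [Finset.card_erase_of_mem hx]; omega)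
    refine ⟨B, (hF B₀).trans h1, by rwa [Function.iterate_succ_apply], fun y hy => ?_⟩
    by_cases hyx : y = x
    · exact Or.inl (hyx ▸ hx2.trans h1)
    · exact h3 y (Finset.mem_erase.2 ⟨hyx, hy⟩)

/-- A set stable under right translation by `H` has order divisible by that of `H`. -/
theorem card_dvd_of_stable (H : Subgroup G) (s : Finset G)
    (hs : ∀ x ∈ s, ∀ h ∈ H, x * h ∈ s) : Nat.card H ∣ s.card := by
  classical
  haveI := Fintype.ofFinite G
  rw [Finset.card_eq_sum_card_image (fun x : G => (x : G ⧸ H)) s]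
  refine Finset.dvd_sum fun q hq => ?_
  obtain ⟨x, hx, rfl⟩ := Finset.mem_image.1 hq
  refine dvd_of_eq ?_
  rw [Nat.card_eq_fintype_card, ← Finset.card_univ]
  refine Finset.card_bij (fun h _ => x * (h : G)) (fun h _ => ?_) (fun a _ b _ e => ?_) fun y hy => ?_
  · exact Finset.mem_filter.2 ⟨hs x hx h h.2, QuotientGroup.eq.2 (by simp)⟩
  · exact Subtype.ext (mul_left_cancel e)
  · refine ⟨⟨x⁻¹ * y, QuotientGroup.eq.1 (Finset.mem_filter.1 hy).2.symm⟩, Finset.mem_univ _, ?_⟩
    simp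

/-! ### Families -/

section family

variable {e : ℕ}

/-- Exponents up. -/
theorem commute_pow_mono {a b : G} {i j i' j' : ℕ} (h : Commute (a ^ e ^ i) (b ^ e ^ j))
    (hi : i ≤ i') (hj : j ≤ j') : Commute (a ^ e ^ i') (b ^ e ^ j') := by
  obtain ⟨u, rfl⟩ := Nat.exists_eq_add_of_le hi
  obtain ⟨v, rfl⟩ := Nat.exists_eq_add_of_le hj
  rw [pow_add, pow_add, pow_mul, pow_mul]
  exact h.pow_pow _ _

theorem pow_pow_succ (a : G) (i : ℕ) : (a ^ e ^ i) ^ e = a ^ e ^ (i + 1) := by
  rw [← pow_mul, pow_succ]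

variable (hP : ∀ y : G, y ∉ Subgroup.center G → ∀ a b : G, Commute a y → Commute b y →
  Commute (a ^ e) (b ^ e))
include hP

theorem pow_not_central {a : G} {i : ℕ} (ha : a ^ e ^ 4 ∉ Subgroup.center G) (hi : i ≤ 4) :
    a ^ e ^ i ∉ Subgroup.center G := by
  intro h
  refine ha ?_
  obtain ⟨v, hv⟩ := Nat.exists_eq_add_of_le hi
  rw [hv, pow_add, pow_mul]
  exact Subgroup.pow_mem _ h _

theorem rel_of_comm33 {a c : G} (ha : a ^ e ^ 4 ∉ Subgroup.center G)
    (hc : c ^ e ^ 4 ∉ Subgroup.center G) (h : Commute (a ^ e ^ 3) (c ^ e ^ 3)) :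
    Commute (a ^ e ^ 2) (c ^ e ^ 2) := by
  have h1 := hP _ (pow_not_central hP ha (by norm_num : 3 ≤ 4)) a (c ^ e ^ 3)
    (Commute.self_pow a _) h.symm
  rw [pow_pow_succ] at h1
  have h2 := hP _ hc c (a ^ e) (Commute.self_pow c _) h1
  have h3 : (a ^ e) ^ e = a ^ e ^ 2 := by rw [← pow_mul, pow_two]
  rw [h3] at h2
  refine commute_pow_mono (i := 2) (j := 1) ?_ le_rfl (by norm_num)
  rw [pow_one]
  exact h2.symm

theorem rel_trans {a b c : G} (ha : a ^ e ^ 4 ∉ Subgroup.center G)
    (hb : b ^ e ^ 4 ∉ Subgroup.center G) (hc : c ^ e ^ 4 ∉ Subgroup.center G)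
    (h1 : Commute (a ^ e ^ 2) (b ^ e ^ 2)) (h2 : Commute (b ^ e ^ 2) (c ^ e ^ 2)) :
    Commute (a ^ e ^ 2) (c ^ e ^ 2) := by
  have h3 := hP _ (pow_not_central hP hb (by norm_num : 2 ≤ 4)) _ _ h1 h2.symm
  rw [pow_pow_succ, pow_pow_succ] at h3
  exact rel_of_comm33 hP ha hc h3

/-- Two elements of the same kind whose powers centralise a non-central element are related. -/
theorem rel_of_centralize {a c y : G} (ha : a ^ e ^ 4 ∉ Subgroup.center G)
    (hc : c ^ e ^ 4 ∉ Subgroup.center G) (hy : y ∉ Subgroup.center G)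
    (h1 : Commute (a ^ e ^ 2) y) (h2 : Commute (c ^ e ^ 2) y) :
    Commute (a ^ e ^ 2) (c ^ e ^ 2) := by
  have h3 := hP y hy _ _ h1 h2
  rw [pow_pow_succ, pow_pow_succ] at h3
  exact rel_of_comm33 hP ha hc h3

end family

/-- The bound on `B` of `abelian_of_jordan`. -/
def gapFun (K N B : ℕ) : ℕ := 2 * N * (B + K + N).factorial + B + 1

/-- The bound of `abelian_of_jordan`. -/
def jordanBound (c N K : ℕ) : ℕ := ((gapFun K N)^[2 * N] 1 + K + N).factorial + c * N

theorem abelian_of_jordan {c N K e : ℕ}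
    (hP : ∀ y : G, y ∉ Subgroup.center G → ∀ a b : G, Commute a y → Commute b y →
      Commute (a ^ e) (b ^ e))
    (hN : ∀ (s : Set G) (M : Subgroup G), (∀ x ∈ s, ∃ a : G, a ^ e = x) →
      (∀ x ∈ s, ∀ y ∈ s, Commute x y) → (∀ g ∈ M, ∀ x ∈ s, g * x * g⁻¹ ∈ s) →
      (Subgroup.centralizer s).relIndex M ≤ N)
    (hS : ∀ x : G, x ∉ Subgroup.center G →
      (∀ a : G, Commute a x → a ^ e ^ 4 ∈ Subgroup.center G) →
      Nat.card (Subgroup.centralizer ({(x : G ⧸ Subgroup.center G)} : Set (G ⧸ Subgroup.center G))) ≤ K)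
    (hC : ∀ y : G, y ∉ Subgroup.center G → AbSub (Subgroup.centralizer {y}) c) :
    AbSub (⊤ : Subgroup G) (jordanBound c N K) := by
  classical
  haveI := Fintype.ofFinite G
  set Z := Subgroup.center G with hZdef
  -- classes
  let T := {a : G // a ^ e ^ 4 ∉ Z}
  have hTconj : ∀ (g : G) (a : T), (g * (a : G) * g⁻¹) ^ e ^ 4 ∉ Z := fun g a h => by
    rw [conj_pow] at h
    apply a.2
    have := Subgroup.Normal.conj_mem inferInstance _ h g⁻¹
    simpa [mul_assoc] using this
  let st : Setoid T :=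
    { r := fun a b => Commute ((a : G) ^ e ^ 2) ((b : G) ^ e ^ 2)
      iseqv := ⟨fun a => Commute.refl _, fun h => h.symm,
        fun {a b c} h h' => rel_trans hP a.2 b.2 c.2 h h'⟩ }
  let X := Quotient st
  haveI := Fintype.ofFinite X
  have hcongr : ∀ (g : G) (a b : T), Commute ((a : G) ^ e ^ 2) ((b : G) ^ e ^ 2) →
      Commute ((g * (a : G) * g⁻¹) ^ e ^ 2) ((g * (b : G) * g⁻¹) ^ e ^ 2) := fun g a b h => by
    rw [conj_pow, conj_pow]
    exact (Commute.conj_iff g).2 h
  letI act : MulAction G X :=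
    { smul := fun g => Quotient.map (fun a : T => ⟨g * (a : G) * g⁻¹, hTconj g a⟩) (hcongr g)
      one_smul := fun q => by
        obtain ⟨a, rfl⟩ := Quotient.mk_surjective q
        exact congrArg (Quotient.mk st) (Subtype.ext (by simp))
      mul_smul := fun g h q => by
        obtain ⟨a, rfl⟩ := Quotient.mk_surjective q
        exact congrArg (Quotient.mk st) (Subtype.ext (by simp [mul_assoc])) }
  have smul_mk : ∀ (g : G) (a : T),
      g • Quotient.mk st a = Quotient.mk st ⟨g * (a : G) * g⁻¹, hTconj g a⟩ := fun g a => rfl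
  have mk_eq : ∀ a b : T, Quotient.mk st a = Quotient.mk st b ↔
      Commute ((a : G) ^ e ^ 2) ((b : G) ^ e ^ 2) := fun a b => Quotient.eq
  -- torus, its centraliser, stabiliser
  let S : X → Set G := fun q => {x | ∃ a : T, Quotient.mk st a = q ∧ (a : G) ^ e ^ 2 = x}
  let M : X → Subgroup G := fun q => MulAction.stabilizer G q
  let U : X → Subgroup G := fun q => Subgroup.centralizer (S q)
  have hScomm : ∀ q, ∀ x ∈ S q, ∀ y ∈ S q, Commute x y := by
    rintro q x ⟨a, ha, rfl⟩ y ⟨b, hb, rfl⟩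
    exact (mk_eq a b).1 (ha.trans hb.symm)
  have hSe : ∀ q, ∀ x ∈ S q, ∃ a : G, a ^ e = x := by
    rintro q x ⟨a, -, rfl⟩
    exact ⟨(a : G) ^ e, by rw [← pow_mul, pow_two]⟩
  have hSM : ∀ q, ∀ g ∈ M q, ∀ x ∈ S q, g * x * g⁻¹ ∈ S q := by
    rintro q g hg x ⟨a, ha, rfl⟩
    refine ⟨⟨g * (a : G) * g⁻¹, hTconj g a⟩, ?_, conj_pow⟩
    rw [← smul_mk, ha]
    exact MulAction.mem_stabilizer_iff.1 hg
  have hne2 : ∀ a : T, (a : G) ^ e ^ 2 ∉ Z := fun a => pow_not_central hP a.2 (by norm_num)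
  have hfix : ∀ (a : T) (g : G), Commute ((a : G) ^ e ^ 2) g → g ∈ M (Quotient.mk st a) := by
    intro a g h
    rw [MulAction.mem_stabilizer_iff, smul_mk, mk_eq, conj_pow, h.symm.eq, mul_inv_cancel_right]
  have hUM : ∀ q, U q ≤ M q := by
    intro q g hg
    obtain ⟨a, rfl⟩ := Quotient.mk_surjective q
    exact hfix a g (Subgroup.mem_centralizer_iff.1 hg _ ⟨a, rfl, rfl⟩)
  have hZU : ∀ q, Z ≤ U q := fun q => Subgroup.center_le_centralizer _
  -- in the quotient
  set π := QuotientGroup.mk' Z with hπ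
  let Ub : X → Subgroup (G ⧸ Z) := fun q => (U q).map π
  let Mb : X → Subgroup (G ⧸ Z) := fun q => (M q).map π
  haveI := Fintype.ofFinite (G ⧸ Z)
  let P : X → (G ⧸ Z) → Prop := fun q x => x ≠ 1 ∧ ∃ y : G, π y = x ∧
    ∃ a : T, Quotient.mk st a = q ∧ Commute ((a : G) ^ e ^ 2) y
  have hlift : ∀ {y : G}, π y ≠ 1 ↔ y ∉ Z := fun {y} => not_congr (QuotientGroup.eq_one_iff y)
  have hshift : ∀ {y y' g : G}, π y = π y' → Commute g y → Commute g y' := fun {y y' g} h h' => by
    have hz : y⁻¹ * y' ∈ Z := QuotientGroup.eq.1 h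
    rw [← mul_inv_cancel_left y y']
    exact h'.mul_right (Subgroup.mem_center_iff.1 hz g)
  have huniq : ∀ q q' x, P q x → P q' x → q = q' := by
    rintro q q' x ⟨hx, y, hy, a, rfl, ha⟩ ⟨-, y', hy', b, rfl, hb⟩
    rw [mk_eq]
    exact rel_of_centralize hP a.2 b.2 (hlift.1 (hy ▸ hx)) ha (hshift (hy'.trans hy.symm) hb)
  have hPM : ∀ q x, P q x → x ∈ Mb q := by
    rintro q x ⟨-, y, rfl, a, rfl, ha⟩
    exact Subgroup.mem_map_of_mem _ (hfix a y ha)
  let Ep : X → Finset (G ⧸ Z) := fun q => Finset.univ.filter (P q)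
  let Sm : Finset (G ⧸ Z) := Finset.univ.filter fun x => x ≠ 1 ∧ ∀ q, ¬ P q x
  set g := Nat.card (G ⧸ Z) with hg
  have hpart : g = 1 + Sm.card + ∑ q, (Ep q).card := by
    rw [← Finset.card_biUnion (fun q _ q' _ hne => Finset.disjoint_left.2 fun x h h' =>
      hne (huniq q q' x (Finset.mem_filter.1 h).2 (Finset.mem_filter.1 h').2))]
    rw [hg, Nat.card_eq_fintype_card, ← Finset.card_univ,
      ← Finset.card_singleton (1 : G ⧸ Z), ← Finset.card_union_of_disjoint,
      ← Finset.card_union_of_disjoint]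
    · congr 1
      ext x
      simp only [Finset.mem_univ, true_iff, Finset.mem_union, Finset.mem_singleton, Finset.mem_biUnion,
        Sm, Ep, Finset.mem_filter, true_and]
      by_cases h1 : x = 1
      · exact Or.inl (Or.inl h1)
      by_cases h2 : ∃ q, P q x
      · exact Or.inr h2
      · exact Or.inl (Or.inr ⟨h1, fun q hq => h2 ⟨q, hq⟩⟩)
    · refine Finset.disjoint_left.2 fun x h h' => ?_
      obtain ⟨q, -, hq⟩ := Finset.mem_biUnion.1 h'
      rcases Finset.mem_union.1 h with h | h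
      · exact (Finset.mem_filter.1 hq).2.1 (Finset.mem_singleton.1 h)
      · exact (Finset.mem_filter.1 h).2.2 q (Finset.mem_filter.1 hq).2
    · exact Finset.disjoint_singleton_left.2 fun h => (Finset.mem_filter.1 h).2.1 rfl
  -- families
  have hEk : ∀ q, Nat.card (Ub q) ∣ (Ep q).card + 1 := by
    intro q
    have h1 : (1 : G ⧸ Z) ∉ Ep q := fun h => (Finset.mem_filter.1 h).2.1 rfl
    rw [← Finset.card_insert_of_notMem h1]
    refine card_dvd_of_stable _ _ fun x hx u hu => ?_
    rw [Finset.mem_insert]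
    by_cases hxu : x * u = 1
    · exact Or.inl hxu
    right
    obtain ⟨v, hv, rfl⟩ := hu
    refine Finset.mem_filter.2 ⟨Finset.mem_univ _, hxu, ?_⟩
    rcases Finset.mem_insert.1 hx with rfl | hx
    · obtain ⟨a, rfl⟩ := Quotient.mk_surjective q
      exact ⟨v, (one_mul _).symm, a, rfl, Subgroup.mem_centralizer_iff.1 hv _ ⟨a, rfl, rfl⟩⟩
    · obtain ⟨-, y, rfl, a, ha, hay⟩ := (Finset.mem_filter.1 hx).2
      exact ⟨y * v, map_mul π y v, a, ha,
        hay.mul_right (Subgroup.mem_centralizer_iff.1 hv _ ⟨a, ha, rfl⟩)⟩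
  have hU2 : ∀ q, 2 ≤ Nat.card (Ub q) := by
    intro q
    obtain ⟨a, rfl⟩ := Quotient.mk_surjective q
    rw [Nat.succ_le_iff, Subgroup.one_lt_card_iff_ne_bot]
    intro h
    refine hlift.2 (hne2 a) ?_
    rw [← Subgroup.mem_bot, ← h]
    refine Subgroup.mem_map_of_mem _ (Subgroup.mem_centralizer_iff.2 ?_)
    rintro x ⟨b, hb, rfl⟩
    exact (mk_eq b a).1 hb
  have hUE : ∀ q, Nat.card (Ub q) ≤ 2 * (Ep q).card := fun q => by
    have h1 := Nat.le_of_dvd (Nat.succ_pos _) (hEk q)
    have h2 := hU2 q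
    omega
  let m : X → ℕ := fun q => Nat.card (Mb q)
  have hUbMb : ∀ q, Ub q ≤ Mb q := fun q => Subgroup.map_mono (hUM q)
  let r : X → ℕ := fun q => (Ub q).relIndex (Mb q)
  have hmr : ∀ q, m q = r q * Nat.card (Ub q) := fun q => by
    show Nat.card (Mb q) = _
    rw [← Subgroup.relIndex_bot_left, ← Subgroup.relIndex_bot_left,
      ← Subgroup.relIndex_mul_relIndex ⊥ (Ub q) (Mb q) bot_le (hUbMb q), mul_comm]
  have hrN : ∀ q, r q ≤ N := fun q => by
    refine le_trans ?_ (hN (S q) (M q) (hSe q) (hScomm q) (hSM q))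
    refine Nat.le_of_dvd (Nat.pos_of_ne_zero (relIndex_ne_zero' _ _)) ?_
    show ((U q).map π).relIndex ((M q).map π) ∣ _
    rw [Subgroup.relIndex_map_map]
    rw [QuotientGroup.ker_mk', sup_eq_left.2 (hZU q), sup_eq_left.2 ((hZU q).trans (hUM q))]
  have horb : ∀ q, Nat.card (MulAction.orbit G q) * m q = g := by
    intro q
    have hZM : Z ≤ M q := (hZU q).trans (hUM q)
    rw [Nat.card_coe_set_eq, ← MulAction.index_stabilizer]
    show (M q).index * Nat.card ((M q).map π) = _
    rw [← Subgroup.index_map_eq (f := π) (M q) (QuotientGroup.mk'_surjective Z)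
      (by rwa [QuotientGroup.ker_mk']), Subgroup.index_mul_card]
  -- invariance
  have hPsmul : ∀ (h : G) q, (Ep (h • q)).card = (Ep q).card := by
    intro h q
    refine (Finset.card_equiv (MulAut.conj (π h)).toEquiv fun x => ?_).symm
    simp only [Ep, Finset.mem_filter, Finset.mem_univ, true_and, MulEquiv.toEquiv_eq_coe,
      EquivLike.coe_coe, MulAut.conj_apply]
    constructor
    · rintro ⟨hx, y, rfl, a, rfl, ha⟩
      refine ⟨fun e => hx (by simpa using e), h * y * h⁻¹, by simp, ⟨_, hTconj h a⟩, (smul_mk h a).symm,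
        ?_⟩
      rw [conj_pow]
      exact (Commute.conj_iff h).2 ha
    · rintro ⟨hx, y, hy, a, ha, hay⟩
      refine ⟨fun e => hx (by rw [e]; simp), h⁻¹ * y * h⁻¹⁻¹, ?_, ⟨_, hTconj h⁻¹ a⟩, ?_, ?_⟩
      · rw [map_mul, map_mul, hy, map_inv, map_inv]; simp [mul_assoc]
      · rw [← smul_mk, ha, inv_smul_smul]
      · rw [conj_pow]
        exact (Commute.conj_iff h⁻¹).2 hay
  have hmsmul : ∀ (h : G) q, m (h • q) = m q := fun h q => by
    have h1 := horb q
    have h2 := horb (h • q)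
    rw [MulAction.orbit_smul] at h2
    exact Nat.eq_of_mul_eq_mul_left ((Nat.card_pos_iff).2 ⟨(MulAction.nonempty_orbit q).to_subtype, inferInstance⟩)
      (h2.trans h1.symm)
  have hsumU : ∑ q, Nat.card (Ub q) ≤ 2 * g := by
    calc ∑ q, Nat.card (Ub q) ≤ ∑ q, 2 * (Ep q).card := Finset.sum_le_sum fun q _ => hUE q
      _ ≤ 2 * g := by rw [← Finset.mul_sum]; exact Nat.mul_le_mul_left _ (by omega)
  have hsumm : ∑ q, m q ≤ 2 * N * g := by
    calc ∑ q, m q ≤ ∑ q, N * Nat.card (Ub q) :=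
          Finset.sum_le_sum fun q _ => (hmr q).le.trans (Nat.mul_le_mul_right _ (hrN q))
      _ ≤ 2 * N * g := by
        rw [← Finset.mul_sum, mul_comm 2, mul_assoc]
        exact Nat.mul_le_mul_left _ hsumU
  have hgpos : 0 < g := Nat.card_pos
  -- few values
  have hvals : (Finset.univ.image m).card ≤ 2 * N := by
    refine Nat.le_of_mul_le_mul_right (le_trans ?_ hsumm) hgpos
    rw [← Finset.sum_fiberwise_of_maps_to (t := Finset.univ.image m) (g := m)
      (fun q _ => Finset.mem_image_of_mem m (Finset.mem_univ q)), ← smul_eq_mul]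
    refine Finset.card_nsmul_le_sum _ _ _ fun v hv => ?_
    obtain ⟨q, -, rfl⟩ := Finset.mem_image.1 hv
    rw [Finset.sum_congr rfl (g := fun _ => m q) fun q' hq' => (Finset.mem_filter.1 hq').2,
      Finset.sum_const, smul_eq_mul, ← horb q]
    refine Nat.mul_le_mul_right _ ?_
    rw [Nat.card_eq_fintype_card, ← Set.toFinset_card]
    refine Finset.card_le_card fun q' hq' => ?_
    obtain ⟨h, rfl⟩ := Set.mem_toFinset.1 hq'
    exact Finset.mem_filter.2 ⟨Finset.mem_univ _, hmsmul h q⟩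
  obtain ⟨B, hB1, hB2, hgap⟩ := exists_gap (gapFun K N) (fun B => by unfold gapFun; omega)
    (2 * N) 1 (Finset.univ.image m) hvals
  set L := (B + K + N).factorial with hL
  have hdvdL : ∀ i, 0 < i → i ≤ B + K + N → i ∣ L := fun i h1 h2 => Nat.dvd_factorial h1 h2
  by_cases hgL : g ≤ L
  · refine ⟨Z, le_top, fun a ha b _ => ((Subgroup.mem_center_iff.1 ha) b).symm, ?_⟩
    rw [Subgroup.relIndex_top_right, Subgroup.index_eq_card]
    exact hgL.trans ((Nat.factorial_le (by omega)).trans (Nat.le_add_right _ _))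
  -- the small part
  have hSm : g ∣ L * Sm.card := by
    have h := card_dvd_sum (H := ConjAct (G ⧸ Z)) (X := G ⧸ Z)
      (fun x => if x ∈ Sm then 1 else 0) L ?_ ?_
    · rwa [show Nat.card (ConjAct (G ⧸ Z)) = g from Nat.card_congr ConjAct.ofConjAct.toEquiv,
        Finset.sum_boole, Finset.filter_mem_eq_inter, Finset.univ_inter,
        Nat.cast_id] at h
    · intro h x
      refine if_congr ?_ rfl rfl
      simp only [Sm, Finset.mem_filter, Finset.mem_univ, true_and, ConjAct.smul_def]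
      generalize ConjAct.ofConjAct h = k
      obtain ⟨k, rfl⟩ := QuotientGroup.mk'_surjective Z k
      have hcj : ∀ q x, P q x → P (k • q) (π k * x * (π k)⁻¹) := by
        rintro q x ⟨hx, y, rfl, a, rfl, ha⟩
        refine ⟨fun e => hx (by simpa using e), k * y * k⁻¹, by simp, ⟨_, hTconj k a⟩,
          (smul_mk k a).symm, ?_⟩
        rw [conj_pow]
        exact (Commute.conj_iff k).2 ha
      have hcj' : ∀ q x, P q (π k * x * (π k)⁻¹) → P (k⁻¹ • q) x := by
        rintro q x ⟨hx, y, hy, a, rfl, ha⟩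
        refine ⟨fun e => hx (by rw [e]; simp), k⁻¹ * y * k⁻¹⁻¹, ?_, ⟨_, hTconj k⁻¹ a⟩,
          (smul_mk k⁻¹ a).symm, ?_⟩
        · rw [map_mul, map_mul, hy, map_inv, map_inv]; simp [mul_assoc]
        · rw [conj_pow]
          exact (Commute.conj_iff k⁻¹).2 ha
      refine ⟨fun ⟨h1, h2⟩ => ⟨fun e => h1 (by rw [e]; simp), fun q hq => h2 _ (hcj q x hq)⟩,
        fun ⟨h1, h2⟩ => ⟨fun e => h1 (by simpa using e), fun q hq => h2 _ (hcj' q x hq)⟩⟩
    · intro x
      by_cases hx : x ∈ Sm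
      · rw [if_pos hx, mul_one, Nat.card_coe_set_eq, ← MulAction.index_stabilizer]
        obtain ⟨hx1, hx2⟩ := (Finset.mem_filter.1 hx).2
        obtain ⟨y, rfl⟩ := QuotientGroup.mk'_surjective Z x
        have hy : y ∉ Z := hlift.1 hx1
        have hK := hS y hy fun a ha => by
          by_contra hne
          exact hx2 _ ⟨hlift.2 hy, y, rfl, ⟨a, hne⟩, rfl, ha.pow_left _⟩
        rw [← Subgroup.index_mul_card (MulAction.stabilizer (ConjAct (G ⧸ Z)) (π y)), mul_comm L]
        refine mul_dvd_mul_left _ (hdvdL _ Nat.card_pos (le_trans ?_ (by omega : K ≤ B + K + N)))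
        rw [ConjAct.stabilizer_eq_centralizer]
        exact hK
      · rw [if_neg hx, mul_zero, zero_mul]
        exact dvd_zero _
  -- the families
  let big : X → Prop := fun q => B < m q
  let w : X → ℕ := fun q => (Ep q).card + if big q then 1 else 0
  have hbigsmul : ∀ (h : G) q, big (h • q) ↔ big q := fun h q => by
    show B < m (h • q) ↔ B < m q
    rw [hmsmul]
  have hfam : g ∣ L * ∑ q, w q := by
    have hw : ∀ q, g ∣ L * w q * Nat.card (MulAction.orbit G q) := by
      intro q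
      rw [← horb q, mul_comm (Nat.card (MulAction.orbit G q))]
      refine mul_dvd_mul_right ?_ _
      by_cases hq : big q
      · obtain ⟨k, hk⟩ := hEk q
        show m q ∣ L * ((Ep q).card + if big q then 1 else 0)
        rw [if_pos hq, hk, hmr q, ← mul_assoc, mul_comm (r q), mul_comm L, mul_assoc]
        exact mul_dvd_mul_left _ (Dvd.dvd.mul_right (hdvdL _ (Nat.pos_of_ne_zero
          (relIndex_ne_zero' _ _)) ((hrN q).trans (by omega))) _)
      · exact Dvd.dvd.mul_right (hdvdL _ Nat.card_pos ((not_lt.1 hq).trans (by omega))) _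
    -- the action factors through `G ⧸ Z`
    let φ : G ⧸ Z →* Equiv.Perm X := QuotientGroup.lift Z (MulAction.toPermHom G X) fun z hz => by
      rw [MonoidHom.mem_ker]
      refine Equiv.ext fun q => ?_
      obtain ⟨a, rfl⟩ := Quotient.mk_surjective q
      exact MulAction.mem_stabilizer_iff.1 (hfix a z (Subgroup.mem_center_iff.1 hz _))
    letI : MulAction (G ⧸ Z) X := MulAction.compHom X φ
    have horbit : ∀ q, MulAction.orbit (G ⧸ Z) q = MulAction.orbit G q := fun q => by
      ext x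
      constructor
      · rintro ⟨k, rfl⟩
        obtain ⟨k, rfl⟩ := QuotientGroup.mk'_surjective Z k
        exact ⟨k, (show φ (π k) q = k • q from rfl).symm⟩
      · rintro ⟨k, rfl⟩
        exact ⟨π k, (show φ (π k) q = k • q from rfl)⟩
    refine card_dvd_sum (H := G ⧸ Z) w L (fun k q => ?_) fun q => by rw [horbit]; exact hw q
    obtain ⟨k, rfl⟩ := QuotientGroup.mk'_surjective Z k
    show (Ep (k • q)).card + (if big (k • q) then 1 else 0) = _
    rw [hPsmul]
    exact congrArg _ (if_congr (hbigsmul k q) rfl rfl)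
  set t := (Finset.univ.filter big).card with ht
  have hsum : ∑ q, w q = (∑ q, (Ep q).card) + t := by
    show ∑ q, ((Ep q).card + if big q then 1 else 0) = _
    rw [Finset.sum_add_distrib, Finset.sum_boole, Nat.cast_id]
  have htle : L * t < g := by
    have h1 : (gapFun K N B + 1) * t ≤ 2 * N * g := by
      refine le_trans ?_ hsumm
      rw [mul_comm, ht, ← smul_eq_mul]
      refine le_trans (Finset.card_nsmul_le_sum (f := m) _ _ fun q hq => ?_)
        (Finset.sum_le_sum_of_subset (Finset.subset_univ _))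
      rcases hgap (m q) (Finset.mem_image_of_mem m (Finset.mem_univ q)) with h | h
      · exact absurd ((Finset.mem_filter.1 hq).2) (not_lt.2 h)
      · exact h
    by_contra hle
    push Not at hle
    have h2 : 2 * N * g ≤ 2 * N * (L * t) := Nat.mul_le_mul_left _ hle
    have h3 : gapFun K N B = 2 * N * L + B + 1 := rfl
    have h4 : 1 ≤ t := Nat.pos_of_ne_zero fun h => by rw [h] at hle; omega
    nlinarith
  have hkey : L * t = L := by
    have h1 : g ∣ L * Sm.card + L * ∑ q, w q := dvd_add hSm hfam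
    have h2 : L + (L * Sm.card + L * ∑ q, w q) = L * g + L * t := by
      rw [hsum]
      conv_rhs => rw [hpart]
      ring
    have h3 : (L + (L * Sm.card + L * ∑ q, w q)) % g = L % g := by
      obtain ⟨u, hu⟩ := h1
      rw [hu, Nat.add_mul_mod_self_left]
    rw [h2, add_comm, Nat.add_mul_mod_self_right, Nat.mod_eq_of_lt htle,
      Nat.mod_eq_of_lt (not_le.1 hgL)] at h3
    exact h3
  have ht1 : t = 1 := Nat.eq_of_mul_eq_mul_left (Nat.factorial_pos _) (hkey.trans (mul_one L).symm)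
  obtain ⟨q, hq⟩ := Finset.card_eq_one.1 (ht ▸ ht1)
  have hMtop : M q = ⊤ := by
    rw [eq_top_iff]
    intro k _
    have hbq : big q := (Finset.mem_filter.1 (hq ▸ Finset.mem_singleton_self q)).2
    have h2 : k • q ∈ Finset.univ.filter big :=
      Finset.mem_filter.2 ⟨Finset.mem_univ _, (hbigsmul k q).2 hbq⟩
    rw [hq, Finset.mem_singleton] at h2
    exact h2
  have hidx : (U q).relIndex ⊤ ≤ N := hMtop ▸ hN (S q) (M q) (hSe q) (hScomm q) (hSM q)
  obtain ⟨a, rfl⟩ := Quotient.mk_surjective q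
  refine AbSub.mono (AbSub.of_le le_top ?_ (hC _ (hne2 a)) hidx) (Nat.le_add_left _ _)
  intro x hx
  rw [Subgroup.mem_centralizer_singleton_iff]
  exact (Subgroup.mem_centralizer_iff.1 hx _ ⟨a, rfl, rfl⟩).symm

end Cfsg.Agent.JordanBound
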