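/-
Weights of commuting elements of order prime to the characteristic.

* `eq_of_eigen`: endomorphisms agreeing on the common eigenvectors are equal
* `relIndex_centralizer_le`: a group normalising a commuting set centralises it up to index `n ^ n`
* `relIndex_center_le`: commuting elements of bounded exponent modulo scalars
-/
import Cfsg.Agent.EqLemmas
import Cfsg.Agent.Lib.LinearPGroup.Basic
import Mathlib.Algebra.Polynomial.Roots
import Mathlib.RingTheory.RootsOfUnity.Basic

set_option autoImplicit false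
set_option linter.style.haveILetI false
set_option linter.unusedSectionVars false

open Module

namespace Cfsg.Agent.JordanBound

variable {G : Type*} [Group G] [Finite G] {K : Type*} [Field K] [IsAlgClosed K] {V : Type*}
  [AddCommGroup V] [Module K V] [FiniteDimensional K V] (ρ : G →* Module.End K V)

theorem rho_inj (g : G) : Function.Injective (ρ g) := fun a b h => by
  have := congrArg (ρ g⁻¹) h
  rwa [← Module.End.mul_apply, ← Module.End.mul_apply, ← map_mul, inv_mul_cancel, map_one,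
    Module.End.one_apply, Module.End.one_apply] at this

/-- Semisimple commuting elements: common eigenvectors span. -/
theorem eq_of_eigen (A : Subgroup G) (hAc : ∀ a ∈ A, ∀ b ∈ A, Commute a b) {k : ℕ} (hk : (k : K) ≠ 0)
    (hA : ∀ a ∈ A, a ^ k = 1) {f g : Module.End K V}
    (h : ∀ (χ : A → K) (v : V), (∀ a : A, ρ a v = χ a • v) → f v = g v) : f = g := by
  let F : A → Module.End K V := fun a => ρ a
  have hcomm : Pairwise fun a b => Commute (F a) (F b) := fun a b _ =>
    (hAc a a.2 b b.2).map ρ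
  have htop := Module.End.iSup_iInf_maxGenEigenspace_eq_top_of_iSup_maxGenEigenspace_eq_top_of_commute
    F hcomm fun a => Module.End.iSup_maxGenEigenspace_eq_top (F a)
  rw [← sub_eq_zero, ← LinearMap.ker_eq_top, eq_top_iff, ← htop, iSup_le_iff]
  intro χ v hv
  rw [LinearMap.mem_ker, LinearMap.sub_apply, sub_eq_zero]
  refine h χ v fun a => LinearPGroup.eigen_of_mem_maxGen hk ?_ ((Submodule.mem_iInf _).1 hv a)
  show ρ a ^ k = 1
  rw [← map_pow, hA a a.2, map_one]

/-- The weights. -/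
def weights (A : Subgroup G) : Set (A → K) :=
  {χ | ∃ v : V, v ≠ 0 ∧ ∀ a : A, ρ a v = χ a • v}

theorem relIndex_centralizer_le (hρ : Function.Injective ρ) (s : Set G)
    (hcomm : ∀ x ∈ s, ∀ y ∈ s, Commute x y) {k : ℕ} (hk : (k : K) ≠ 0) (hord : ∀ x ∈ s, x ^ k = 1)
    {M : Subgroup G} (hM : ∀ g ∈ M, ∀ x ∈ s, g * x * g⁻¹ ∈ s) {n : ℕ} (hn : finrank K V ≤ n) :
    (Subgroup.centralizer s).relIndex M ≤ n ^ n := by
  classical
  set A := Subgroup.closure s with hA
  have hAc : ∀ a ∈ A, ∀ b ∈ A, Commute a b := fun a ha b hb => by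
    have h1 : A ≤ Subgroup.centralizer A := by
      rw [hA, Subgroup.centralizer_closure, Subgroup.closure_le]
      exact fun x hx => Subgroup.mem_centralizer_iff.2 fun y hy => (hcomm y hy x hx).eq
    exact ((Subgroup.mem_centralizer_iff.1 (h1 ha)) b hb).symm
  have hAk : ∀ a ∈ A, a ^ k = 1 := fun a ha => by
    have h2 : a ∈ A ∧ a ^ k = 1 := by
      rw [hA] at ha
      induction ha using Subgroup.closure_induction with
      | mem x hx => exact ⟨Subgroup.subset_closure hx, hord x hx⟩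
      | one => exact ⟨A.one_mem, one_pow k⟩
      | mul x y _ _ hx hy =>
        exact ⟨A.mul_mem hx.1 hy.1, by rw [(hAc x hx.1 y hy.1).mul_pow, hx.2, hy.2, one_mul]⟩
      | inv x _ hx => exact ⟨A.inv_mem hx.1, by rw [inv_pow, hx.2, inv_one]⟩
    exact h2.2
  have hMA : ∀ g ∈ M, ∀ a ∈ A, g * a * g⁻¹ ∈ A := fun g hg a ha => by
    have h1 : A ≤ A.comap (MulAut.conj g).toMonoidHom := (Subgroup.closure_le _).2 fun x hx =>
      Subgroup.subset_closure (hM g hg x hx)
    exact h1 ha
  obtain ⟨hfin, hcard⟩ := LinearPGroup.ncard_weights_le ρ A fun a ha b hb => (hAc a ha b hb).eq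
  set Λ := weights ρ A
  haveI : Finite Λ := hfin.to_subtype
  have hact : ∀ (g : M) (χ : Λ),
      (fun a : A => (χ : A → K) ⟨(g : G)⁻¹ * a * g, by
        simpa using hMA _ (M.inv_mem g.2) a a.2⟩) ∈ Λ := by
    rintro g ⟨χ, v, hv, heig⟩
    refine ⟨ρ g v, fun h => hv (rho_inj ρ g (by rw [h, map_zero])), fun a => ?_⟩
    have h := heig ⟨(g : G)⁻¹ * a * g, by simpa using hMA _ (M.inv_mem g.2) a a.2⟩
    calc ρ (a : G) (ρ (g : G) v) = ρ (g : G) (ρ ((g : G)⁻¹ * a * g) v) := by
          rw [← Module.End.mul_apply, ← map_mul, ← Module.End.mul_apply, ← map_mul]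
          simp [mul_assoc]
      _ = _ := by rw [h, map_smul]
  let perm : M → (Λ → Λ) := fun g χ => ⟨_, hact g χ⟩
  have hinj : ∀ g h : M, perm g = perm h → (h : G)⁻¹ * g ∈ Subgroup.centralizer s := by
    intro g h e
    refine Subgroup.mem_centralizer_iff.2 fun x hx => hρ ?_
    refine eq_of_eigen ρ A hAc hk hAk fun χ v hv => ?_
    by_cases hv0 : v = 0
    · rw [hv0, map_zero, map_zero]
    have hxA : x ∈ A := Subgroup.subset_closure hx
    have h1 := congrArg Subtype.val (congrFun e ⟨χ, v, hv0, hv⟩)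
    set u := (h : G)⁻¹ * g with hu
    have hc : u⁻¹ * x * u ∈ A := by
      have := hMA _ (M.inv_mem (M.mul_mem (M.inv_mem h.2) g.2)) x hxA
      simpa [hu] using this
    have h2 := congrFun h1 ⟨(h : G) * x * (h : G)⁻¹, hMA _ h.2 x hxA⟩
    have h3 : χ ⟨u⁻¹ * x * u, hc⟩ = χ ⟨x, hxA⟩ := by
      refine Eq.trans (congrArg χ (Subtype.ext ?_)) (h2.trans (congrArg χ (Subtype.ext ?_)))
      · simp [hu, mul_assoc]
      · simp [mul_assoc]
    have h4 := hv ⟨u⁻¹ * x * u, hc⟩
    rw [h3] at h4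
    have h5 : ρ (x * u) v = ρ u (ρ (u⁻¹ * x * u) v) := by
      rw [← Module.End.mul_apply, ← map_mul]
      simp [mul_assoc]
    have h6 : ρ (u * x) v = ρ u (ρ x v) := by rw [map_mul ρ u x, Module.End.mul_apply]
    rw [h5, h4, h6, hv ⟨x, hxA⟩]
  have h1 : (Subgroup.centralizer s).relIndex M ≤ Nat.card (Λ → Λ) := by
    show Nat.card (M ⧸ (Subgroup.centralizer s).subgroupOf M) ≤ _
    refine Nat.card_le_card_of_injective (fun q => perm q.out) fun q q' e => ?_
    rw [← q.out_eq, ← q'.out_eq]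
    refine (QuotientGroup.eq.2 ?_).symm
    exact hinj _ _ e
  refine h1.trans ?_
  rw [Nat.card_fun, Nat.card_coe_set_eq]
  have hcard' : Λ.ncard ≤ n := hcard.trans hn
  rcases Nat.eq_zero_or_pos n with hn0 | hn0
  · have : Λ.ncard = 0 := by omega
    rw [this, hn0]
  · exact (Nat.pow_le_pow_left hcard' _).trans (Nat.pow_le_pow_right hn0 hcard')

theorem relIndex_center_le (hρ : Function.Injective ρ) [Nontrivial V]
    (hsc : ∀ g ∈ Subgroup.center G, ∃ c : K, ρ g = c • 1)
    (A : Subgroup G) (hAc : ∀ a ∈ A, ∀ b ∈ A, Commute a b) {k : ℕ} (hk : (k : K) ≠ 0)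
    (hAk : ∀ a ∈ A, a ^ k = 1) {E : ℕ} (hE : 0 < E) (hAE : ∀ a ∈ A, a ^ E ∈ Subgroup.center G)
    {n : ℕ} (hn : finrank K V ≤ n) : (Subgroup.center G).relIndex A ≤ E ^ n := by
  classical
  obtain ⟨hfin, hcard⟩ := LinearPGroup.ncard_weights_le ρ A fun a ha b hb => (hAc a ha b hb).eq
  set Λ := weights ρ A
  haveI : Finite Λ := hfin.to_subtype
  have hne : Nonempty Λ := by
    by_contra hne
    refine one_ne_zero (α := Module.End K V) (eq_of_eigen ρ A hAc hk hAk fun χ v hv => ?_)
    by_cases hv0 : v = 0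
    · rw [hv0, map_zero, map_zero]
    · exact absurd ⟨⟨χ, v, hv0, hv⟩⟩ hne
  obtain ⟨χ₀⟩ := hne
  have hne0 : ∀ (χ : Λ) (a : A), (χ : A → K) a ≠ 0 := by
    rintro ⟨χ, v, hv, heig⟩ a h
    have := heig a
    replace h : χ a = 0 := h
    rw [h, zero_smul] at this
    exact hv (rho_inj ρ a (this.trans (map_zero _).symm))
  have hmul : ∀ (χ : Λ) (a b : A), (χ : A → K) (a * b) = (χ : A → K) a * (χ : A → K) b := by
    rintro ⟨χ, v, hv, heig⟩ a b
    have h := heig (a * b)
    rw [Subgroup.coe_mul, map_mul, Module.End.mul_apply, heig b, map_smul, heig a, smul_smul] at h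
    exact (smul_left_injective K hv h.symm).trans (mul_comm _ _)
  have hone : ∀ (χ : Λ), (χ : A → K) 1 = 1 := fun χ => by
    have h := hmul χ 1 1
    rw [one_mul] at h
    exact (mul_eq_left₀ (hne0 χ 1)).1 h.symm
  have hpow : ∀ (χ : Λ) (a : A) (j : ℕ), (χ : A → K) (a ^ j) = (χ : A → K) a ^ j := fun χ a j => by
    induction j with
    | zero => rw [pow_zero, pow_zero, hone]
    | succ j ih => rw [pow_succ, pow_succ, hmul, ih]
  have hroot : ∀ (χ : Λ) (a : A),
      (χ : A → K) a / (χ₀ : A → K) a ∈ (Polynomial.nthRoots E (1 : K)).toFinset := by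
    intro χ a
    rw [Multiset.mem_toFinset, Polynomial.mem_nthRoots hE, div_pow, ← hpow, ← hpow,
      div_eq_one_iff_eq (hne0 _ _)]
    obtain ⟨c, hc⟩ := hsc _ (hAE a a.2)
    have key : ∀ χ : Λ, (χ : A → K) (a ^ E) = c := by
      rintro ⟨χ, v, hv, heig⟩
      have := heig (a ^ E)
      rw [Subgroup.coe_pow, hc, LinearMap.smul_apply, Module.End.one_apply] at this
      exact (smul_left_injective K hv this).symm
    rw [key, key]
  let φ : A → (Λ → (Polynomial.nthRoots E (1 : K)).toFinset) := fun a χ => ⟨_, hroot χ a⟩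
  have hinj : ∀ a b : A, φ a = φ b → (b : G)⁻¹ * a ∈ Subgroup.center G := by
    intro a b e
    have h1 : ∀ χ : Λ, (χ : A → K) (b⁻¹ * a) = (χ₀ : A → K) (b⁻¹ * a) := by
      intro χ
      have h := congrArg Subtype.val (congrFun e χ)
      have hsplit : ∀ χ : Λ, (χ : A → K) (b⁻¹ * a) = (χ : A → K) a / (χ : A → K) b := fun χ => by
        rw [eq_div_iff (hne0 _ _), mul_comm, ← hmul, mul_inv_cancel_left]
      rw [hsplit, hsplit, div_eq_div_iff (hne0 _ _) (hne0 _ _)]
      rw [div_eq_div_iff (hne0 _ _) (hne0 _ _)] at h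
      linear_combination h
    have h2 : ρ ((b : G)⁻¹ * a) = (χ₀ : A → K) (b⁻¹ * a) • 1 := by
      refine eq_of_eigen ρ A hAc hk hAk fun χ v hv => ?_
      by_cases hv0 : v = 0
      · rw [hv0, map_zero, map_zero]
      rw [LinearMap.smul_apply, Module.End.one_apply, ← h1 ⟨χ, v, hv0, hv⟩]
      exact hv (b⁻¹ * a)
    refine Subgroup.mem_center_iff.2 fun g => hρ ?_
    rw [map_mul ρ g, map_mul ρ _ g, h2, mul_smul_comm, smul_mul_assoc, one_mul, mul_one]
  have h1 : (Subgroup.center G).relIndex A ≤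
      Nat.card (Λ → (Polynomial.nthRoots E (1 : K)).toFinset) := by
    show Nat.card (A ⧸ (Subgroup.center G).subgroupOf A) ≤ _
    refine Nat.card_le_card_of_injective (fun q => φ q.out) fun q q' e => ?_
    rw [← q.out_eq, ← q'.out_eq]
    refine (QuotientGroup.eq.2 ?_).symm
    exact hinj _ _ e
  refine h1.trans ?_
  rw [Nat.card_fun, Nat.card_coe_set_eq, Nat.card_eq_finsetCard]
  refine (Nat.pow_le_pow_left ((Multiset.toFinset_card_le _).trans (Polynomial.card_nthRoots E 1))
    _).trans (Nat.pow_le_pow_right hE (hcard.trans hn))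

end Cfsg.Agent.JordanBound
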