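/-
Jordan's theorem in characteristic `p` for bounded Sylow `p`-subgroups (Brauer-Feit).

* `exists_bound`: abelian subgroups of bounded index in linear groups of bounded degree
-/
import Cfsg.Agent.EqLemmas
import Cfsg.Agent.Lib.JordanBound.Counting
import Cfsg.Agent.Lib.JordanBound.Weights
import Mathlib.GroupTheory.PGroup
import Mathlib.LinearAlgebra.Determinant
import Mathlib.LinearAlgebra.Eigenspace.Triangularizable

set_option autoImplicit false
set_option linter.style.haveILetI false
set_option linter.unusedSectionVars false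

open Module

namespace Cfsg.Agent.JordanBound

universe u v

/-- The statement in degree at most `n`. -/
def Bd (p n m B : ℕ) : Prop :=
  ∀ {G : Type u} [Group G] [Finite G] {K : Type v} [Field K] [IsAlgClosed K] [CharP K p]
    {V : Type v} [AddCommGroup V] [Module K V] [FiniteDimensional K V] (ρ : G →* Module.End K V),
    Function.Injective ρ → finrank K V ≤ n → ¬ p ^ (m + 1) ∣ Nat.card G →
      AbSub (⊤ : Subgroup G) B

theorem AbSub.map_subtype {G : Type*} [Group G] [Finite G] (H : Subgroup G) {B : ℕ}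
    (h : AbSub (⊤ : Subgroup H) B) : AbSub H B := by
  obtain ⟨A, -, hc, hi⟩ := h
  refine ⟨A.map H.subtype, Subgroup.map_subtype_le A, ?_, ?_⟩
  · rintro _ ⟨a, ha, rfl⟩ _ ⟨b, hb, rfl⟩
    exact (hc a ha b hb).map H.subtype
  · rw [Subgroup.relIndex, Subgroup.subgroupOf, Subgroup.comap_map_eq_self_of_injective
      (Subgroup.subtype_injective H)]
    rwa [Subgroup.relIndex_top_right] at hi

theorem card_le_of_isPGroup {G : Type*} [Group G] [Finite G] {p m : ℕ} [hp : Fact p.Prime]
    (hm : ¬ p ^ (m + 1) ∣ Nat.card G) {Q : Type*} [Group Q] [Finite Q] (hQ : IsPGroup p Q)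
    (hd : Nat.card Q ∣ Nat.card G) : Nat.card Q ≤ p ^ m := by
  obtain ⟨k, hk⟩ := IsPGroup.iff_card.1 hQ
  rw [hk]
  refine Nat.pow_le_pow_right hp.out.pos ?_
  by_contra h
  exact hm ((pow_dvd_pow p (not_le.1 h)).trans (hk ▸ hd))

/-- The bound in the reducible case. -/
def redBound (p m B : ℕ) : ℕ := p ^ m * (B * B * (p ^ m).factorial)

variable {G : Type u} [Group G] [Finite G] {K : Type v} [Field K] [IsAlgClosed K] {p : ℕ}
  [hp : Fact p.Prime] [CharP K p] {V : Type v} [AddCommGroup V] [Module K V] [FiniteDimensional K V]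

theorem of_invariant {n m B : ℕ} (hIH : Bd.{u, v} p n m B) (ρ : G →* Module.End K V)
    (hρ : Function.Injective ρ) (hn : finrank K V ≤ n + 1) (hm : ¬ p ^ (m + 1) ∣ Nat.card G)
    (W : Submodule K V) (hW : ∀ g, ∀ w ∈ W, ρ g w ∈ W) (hW0 : W ≠ ⊥) (hW1 : W ≠ ⊤) :
    AbSub (⊤ : Subgroup G) (redBound p m B) := by
  classical
  let ρ₁ : G →* Module.End K W :=
    { toFun := fun g => (ρ g).restrict (hW g)
      map_one' := LinearMap.ext fun w => Subtype.ext (by simp)
      map_mul' := fun g h => LinearMap.ext fun w => Subtype.ext (by simp) }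
  let ρ₂ : G →* Module.End K (V ⧸ W) :=
    { toFun := fun g => W.mapQ W (ρ g) fun w hw => hW g w hw
      map_one' := LinearMap.ext fun x => by
        obtain ⟨x, rfl⟩ := Submodule.Quotient.mk_surjective W x
        simp
      map_mul' := fun g h => LinearMap.ext fun x => by
        obtain ⟨x, rfl⟩ := Submodule.Quotient.mk_surjective W x
        simp }
  have hq : finrank K (V ⧸ W) ≤ n := by
    have h1 := W.finrank_quotient_add_finrank
    have h2 : 0 < finrank K W := Nat.pos_of_ne_zero fun h => hW0 (Submodule.finrank_eq_zero.1 h)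
    omega
  have hw : finrank K W ≤ n := by
    have h1 := Submodule.finrank_lt hW1
    omega
  have key : ∀ {U : Type v} [AddCommGroup U] [Module K U] [FiniteDimensional K U]
      (σ : G →* Module.End K U), finrank K U ≤ n →
      ∃ H : Subgroup G, H.index ≤ B ∧ ∀ a ∈ H, ∀ b ∈ H, b * a * b⁻¹ * a⁻¹ ∈ σ.ker := by
    intro U _ _ _ σ hU
    let σ' : G ⧸ σ.ker →* Module.End K U := QuotientGroup.lift σ.ker σ fun g hg => hg
    have hσ' : Function.Injective σ' := fun a b h => by
      induction a using QuotientGroup.induction_on with | _ a => ?_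
      induction b using QuotientGroup.induction_on with | _ b => ?_
      have h' : σ a = σ b := h
      rw [QuotientGroup.eq, MonoidHom.mem_ker, map_mul, ← h', ← map_mul, inv_mul_cancel, map_one]
    obtain ⟨A, -, hAc, hAi⟩ := hIH σ' hσ' hU
      fun h => hm (h.trans (Subgroup.card_quotient_dvd_card σ.ker))
    rw [Subgroup.relIndex_top_right] at hAi
    refine ⟨A.comap (QuotientGroup.mk' σ.ker), ?_, fun a ha b hb => ?_⟩
    · rwa [Subgroup.index_comap_of_surjective _ (QuotientGroup.mk'_surjective _)]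
    · rw [← QuotientGroup.eq_one_iff]
      show QuotientGroup.mk' σ.ker (b * a * b⁻¹ * a⁻¹) = 1
      rw [map_mul, map_mul, map_mul, map_inv, map_inv, (hAc _ hb _ ha).eq, mul_inv_cancel_right,
        mul_inv_cancel]
  obtain ⟨H₁, hi₁, hc₁⟩ := key ρ₁ hw
  obtain ⟨H₂, hi₂, hc₂⟩ := key ρ₂ hq
  set Q := ρ₁.ker ⊓ ρ₂.ker with hQ
  have hQexp : ∀ q ∈ Q, q ^ p = 1 := by
    intro q hq'
    set x := ρ q - 1 with hx
    have hx1 : ∀ v, x v ∈ W := fun v => by
      have h : ρ₂ q (W.mkQ v) = W.mkQ v := by rw [show ρ₂ q = 1 from hq'.2]; rfl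
      exact (Submodule.Quotient.eq W).1 h
    have hx2 : ∀ w ∈ W, x w = 0 := fun w hw' => by
      have h : ((ρ₁ q) ⟨w, hw'⟩ : V) = w := by rw [show ρ₁ q = 1 from hq'.1]; rfl
      show ρ q w - w = 0
      rw [sub_eq_zero]
      exact h
    have hsq : x * x = 0 := LinearMap.ext fun v => hx2 _ (hx1 v)
    have hpow : ∀ j : ℕ, ρ q ^ j = 1 + (j : K) • x := by
      intro j
      induction j with
      | zero => simp
      | succ j ih =>
        rw [pow_succ, ih, show ρ q = 1 + x by rw [hx]; simp, add_mul, one_mul, smul_mul_assoc, mul_add,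
          mul_one, hsq, add_zero, Nat.cast_succ, add_smul, one_smul]
        abel
    apply hρ
    rw [map_pow, hpow, CharP.cast_eq_zero, zero_smul, add_zero, map_one]
  have hQp : IsPGroup p Q := fun q => ⟨1, by
    rw [pow_one]
    exact Subtype.ext (hQexp q q.2)⟩
  have hQcard : Nat.card Q ≤ p ^ m := card_le_of_isPGroup hm hQp (Subgroup.card_subgroup_dvd_card Q)
  let conj : G →* MulAut Q := MulAut.conjNormal
  have hker : conj.ker ≤ Subgroup.centralizer (Q : Set G) := fun g hg => by
    refine Subgroup.mem_centralizer_iff.2 fun q hq' => ?_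
    have h : g * q * g⁻¹ = q := by
      have h1 := congrArg Subtype.val (DFunLike.congr_fun (MonoidHom.mem_ker.1 hg) ⟨q, hq'⟩)
      rwa [MulAut.conjNormal_apply] at h1
    exact (mul_inv_eq_iff_eq_mul.1 h).symm
  have hcard : conj.ker.index ≤ (p ^ m).factorial := by
    rw [Subgroup.index_ker]
    refine ((Nat.card_le_card_of_injective _ Subtype.val_injective).trans
      (Nat.card_le_card_of_injective (fun e : MulAut Q => e.toEquiv) fun e e' h =>
        MulEquiv.ext fun x => congrFun (congrArg DFunLike.coe h) x)).trans ?_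
    rw [Nat.card_perm]
    exact Nat.factorial_le hQcard
  set C := (H₁ ⊓ H₂) ⊓ conj.ker with hC
  have hCi : C.index ≤ B * B * (p ^ m).factorial :=
    Subgroup.index_inf_le.trans (Nat.mul_le_mul (Subgroup.index_inf_le.trans
      (Nat.mul_le_mul hi₁ hi₂)) hcard)
  have hpc : ∀ a b : C, b * a ^ p = a ^ p * b := by
    rintro ⟨a, ⟨ha1, ha2⟩, hak⟩ ⟨b, ⟨hb1, hb2⟩, -⟩
    apply Subtype.ext
    show b * a ^ p = a ^ p * b
    set c := b * a * b⁻¹ * a⁻¹ with hc
    have hcQ : c ∈ Q := ⟨hc₁ a ha1 b hb1, hc₂ a ha2 b hb2⟩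
    have hca : Commute c a := ((Subgroup.mem_centralizer_iff.1 (hker hak)) c hcQ)
    have h1 : b * a ^ p * b⁻¹ = a ^ p := by
      rw [← conj_pow, show b * a * b⁻¹ = c * a by rw [hc, inv_mul_cancel_right], hca.mul_pow,
        hQexp c hcQ, one_mul]
    exact mul_inv_eq_iff_eq_mul.1 h1
  have hZp : IsPGroup p (C ⧸ Subgroup.center C) := fun x => by
    obtain ⟨a, rfl⟩ := QuotientGroup.mk'_surjective _ x
    refine ⟨1, ?_⟩
    rw [pow_one, ← map_pow]
    exact (QuotientGroup.eq_one_iff _).2 (Subgroup.mem_center_iff.2 fun b => hpc a b)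
  have hZi : (Subgroup.center C).index ≤ p ^ m := card_le_of_isPGroup hm hZp
    ((Subgroup.card_quotient_dvd_card _).trans (Subgroup.card_subgroup_dvd_card C))
  refine ⟨(Subgroup.center C).map C.subtype, le_top, ?_, ?_⟩
  · rintro _ ⟨a, ha, rfl⟩ _ ⟨b, -, rfl⟩
    exact (show Commute a b from (Subgroup.mem_center_iff.1 ha b).symm).map C.subtype
  · rw [Subgroup.relIndex_top_right, Subgroup.index_map_subtype]
    exact Nat.mul_le_mul hZi hCi

theorem exists_bound (p : ℕ) [hp : Fact p.Prime] (n m : ℕ) : ∃ B, Bd.{u, v} p n m B := by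
  classical
  induction n with
  | zero =>
    refine ⟨1, fun {G} _ _ {K} _ _ _ {V} _ _ _ ρ hρ hn hm => ?_⟩
    have : Subsingleton V := (Module.finrank_zero_iff (R := K)).1 (Nat.le_zero.1 hn)
    have : Subsingleton G := ⟨fun a b => hρ (LinearMap.ext fun v => Subsingleton.elim _ _)⟩
    exact ⟨⊤, le_top, fun a _ b _ => by rw [Subsingleton.elim a b], by simp⟩
  | succ n ih =>
    obtain ⟨B₀, hB₀⟩ := ih
    set c₁ := redBound p m B₀ with hc₁
    set e := c₁.factorial * p ^ m with he
    set n₁ := n + 1 with hn₁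
    set Kb := n₁ * (c₁ * (p ^ m * (e ^ 4) ^ n₁)) with hKb
    refine ⟨c₁ + jordanBound c₁ (n₁ ^ n₁) Kb,
      fun {G} _ _ {K} _ _ _ {V} _ _ _ ρ hρ hn hm => ?_⟩
    by_cases hsmall : finrank K V = 0
    · have : Subsingleton V := (Module.finrank_zero_iff (R := K)).1 hsmall
      have : Subsingleton G := ⟨fun a b => hρ (LinearMap.ext fun v => Subsingleton.elim _ _)⟩
      refine ⟨⊤, le_top, fun a _ b _ => by rw [Subsingleton.elim a b], ?_⟩
      rw [Subgroup.relIndex_self]
      have : 0 < jordanBound c₁ (n₁ ^ n₁) Kb :=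
        lt_of_lt_of_le (Nat.factorial_pos _) (Nat.le_add_right _ _)
      omega
    haveI : Nontrivial V := Module.nontrivial_of_finrank_pos (R := K) (Nat.pos_of_ne_zero hsmall)
    by_cases hred : ∃ W : Submodule K V, (∀ g, ∀ w ∈ W, ρ g w ∈ W) ∧ W ≠ ⊥ ∧ W ≠ ⊤
    · obtain ⟨W, hW, hW0, hW1⟩ := hred
      exact (of_invariant hB₀ ρ hρ hn hm W hW hW0 hW1).mono (Nat.le_add_right _ _)
    have heig : ∀ g : G, ∃ μ : K, (ρ g).eigenspace μ ≠ ⊥ ∧
        ∀ h, Commute h g → ∀ w ∈ (ρ g).eigenspace μ, ρ h w ∈ (ρ g).eigenspace μ := by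
      intro g
      obtain ⟨μ, hμ⟩ := Module.End.exists_eigenvalue (ρ g)
      refine ⟨μ, hμ, fun h hh w hw => ?_⟩
      rw [Module.End.mem_eigenspace_iff] at hw ⊢
      rw [← Module.End.mul_apply, ← map_mul, ← hh.eq, map_mul, Module.End.mul_apply, hw, map_smul]
    have hsc : ∀ g ∈ Subgroup.center G, ∃ c : K, ρ g = c • 1 := by
      intro g hg
      obtain ⟨μ, hμ, hinv⟩ := heig g
      refine ⟨μ, ?_⟩
      have htop : (ρ g).eigenspace μ = ⊤ := by
        by_contra hne
        exact hred ⟨_, fun h w hw => hinv h (Subgroup.mem_center_iff.1 hg h) w hw, hμ, hne⟩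
      exact LinearMap.ext fun v => Module.End.mem_eigenspace_iff.1 (htop ▸ Submodule.mem_top)
    have hC : ∀ y : G, y ∉ Subgroup.center G → AbSub (Subgroup.centralizer {y}) c₁ := by
      intro y hy
      obtain ⟨μ, hμ, hinv⟩ := heig y
      have hne : (ρ y).eigenspace μ ≠ ⊤ := by
        intro h
        refine hy (Subgroup.mem_center_iff.2 fun g => hρ ?_)
        have e1 : ρ y = μ • 1 := LinearMap.ext fun v =>
          Module.End.mem_eigenspace_iff.1 (h ▸ Submodule.mem_top)
        rw [map_mul, map_mul, e1, mul_smul_comm, smul_mul_assoc, mul_one, one_mul]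
      refine AbSub.map_subtype _ (of_invariant hB₀ (ρ.comp (Subgroup.centralizer {y}).subtype)
        (hρ.comp Subtype.val_injective) hn
        (fun h => hm (h.trans (Subgroup.card_subgroup_dvd_card _))) _ (fun h w hw =>
          hinv h (Subgroup.mem_centralizer_singleton_iff.1 h.2) w hw) hμ hne)
    have hpdvd : ∀ a : G, a ^ (p ^ m * (Nat.card G / p ^ (Nat.card G).factorization p)) = 1 := by
      intro a
      have hv : (Nat.card G).factorization p ≤ m := by
        by_contra h
        exact hm ((pow_dvd_pow p (not_le.1 h)).trans (Nat.ordProj_dvd _ _))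
      obtain ⟨t, ht⟩ := pow_dvd_pow p hv
      rw [ht, mul_right_comm, Nat.ordProj_mul_ordCompl_eq_self, pow_mul, pow_card_eq_one', one_pow]
    set k := Nat.card G / p ^ (Nat.card G).factorization p with hk
    have hkK : (k : K) ≠ 0 := by
      rw [Ne, CharP.cast_eq_zero_iff K p]
      exact Nat.not_dvd_ordCompl hp.out Nat.card_pos.ne'
    have hpk : ∀ a : G, (a ^ p ^ m) ^ k = 1 := fun a => by rw [← pow_mul]; exact hpdvd a
    have hek : ∀ a : G, (a ^ e) ^ k = 1 := fun a => by
      rw [he, pow_mul]; exact hpk _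
    have hP : ∀ y : G, y ∉ Subgroup.center G → ∀ a b : G, Commute a y → Commute b y →
        Commute (a ^ e) (b ^ e) := by
      intro y hy a b ha hb
      obtain ⟨A, -, hAc, hAi⟩ := hC y hy
      have hmem : ∀ a : G, Commute a y → a ^ e ∈ A := by
        intro a ha
        obtain ⟨j, hj0, hj, hja⟩ := Subgroup.exists_pow_mem_of_index_ne_zero
          (H := A.subgroupOf (Subgroup.centralizer {y})) Subgroup.index_ne_zero_of_finite
          ⟨a, Subgroup.mem_centralizer_singleton_iff.2 ha.eq⟩
        have h1 : a ^ j ∈ A := hja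
        obtain ⟨t, ht⟩ := (Nat.dvd_factorial hj0 (hj.trans hAi)).trans
          (Dvd.intro (p ^ m) rfl : c₁.factorial ∣ e)
        rw [ht, pow_mul]
        exact A.pow_mem h1 t
      exact hAc _ (hmem a ha) _ (hmem b hb)
    have hN : ∀ (s : Set G) (M : Subgroup G), (∀ x ∈ s, ∃ a : G, a ^ e = x) →
        (∀ x ∈ s, ∀ y ∈ s, Commute x y) → (∀ g ∈ M, ∀ x ∈ s, g * x * g⁻¹ ∈ s) →
        (Subgroup.centralizer s).relIndex M ≤ n₁ ^ n₁ := fun s M hs hc hM =>
      relIndex_centralizer_le ρ hρ s hc hkK
        (fun x hx => by obtain ⟨a, rfl⟩ := hs x hx; exact hek a) hM hn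
    have hS : ∀ x : G, x ∉ Subgroup.center G →
        (∀ a : G, Commute a x → a ^ e ^ 4 ∈ Subgroup.center G) →
        Nat.card (Subgroup.centralizer
          ({(x : G ⧸ Subgroup.center G)} : Set (G ⧸ Subgroup.center G))) ≤ Kb := by
      intro x hx hall
      set Z := Subgroup.center G with hZ
      set Cx := Subgroup.centralizer ({x} : Set G) with hCx
      obtain ⟨A, hAC, hAc, hAi⟩ := hC x hx
      have hAi' : A.relIndex Cx ≤ c₁ := hAi
      let pw : A →* G := MonoidHom.mk' (fun a => (a : G) ^ p ^ m) fun a b => by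
        rw [Subgroup.coe_mul, (hAc a a.2 b b.2).mul_pow]
      have hker : Nat.card pw.ker ≤ p ^ m := card_le_of_isPGroup hm (fun a => ⟨m, Subtype.ext
          (Subtype.ext (a.2 : ((a : A) : G) ^ p ^ m = 1))⟩)
        ((Subgroup.card_subgroup_dvd_card _).trans (Subgroup.card_subgroup_dvd_card A))
      have hA1 : Z.relIndex pw.range ≤ (e ^ 4) ^ n₁ := by
        refine relIndex_center_le ρ hρ hsc pw.range ?_ hkK ?_
          (pow_pos (Nat.mul_pos (Nat.factorial_pos _) (pow_pos hp.out.pos _)) _) ?_ hn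
        · rintro _ ⟨a, rfl⟩ _ ⟨b, rfl⟩
          exact (hAc a a.2 b b.2).pow_pow _ _
        · rintro _ ⟨a, rfl⟩
          exact hpk _
        · rintro _ ⟨a, rfl⟩
          exact hall _ ((show Commute (a : G) x from
            (Subgroup.mem_centralizer_singleton_iff.1 (hAC a.2))).pow_left _)
      have hcardA : Nat.card A ≤ p ^ m * ((e ^ 4) ^ n₁ * Nat.card Z) := by
        have h1 : Nat.card A = Nat.card pw.ker * Nat.card pw.range := by
          rw [← Subgroup.index_ker, Subgroup.card_mul_index]
        have h2 : Nat.card (Z.subgroupOf pw.range) ≤ Nat.card Z :=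
          Nat.card_le_card_of_injective (fun z => (⟨((z : pw.range) : G), z.2⟩ : Z)) fun z z' h =>
            Subtype.ext (Subtype.ext (congrArg (fun w : Z => (w : G)) h))
        have h3 : Nat.card pw.range ≤ (e ^ 4) ^ n₁ * Nat.card Z := by
          rw [← (Z.subgroupOf pw.range).index_mul_card]
          exact Nat.mul_le_mul hA1 h2
        rw [h1]
        exact Nat.mul_le_mul hker h3
      have hcardC : Nat.card Cx ≤ c₁ * (p ^ m * ((e ^ 4) ^ n₁ * Nat.card Z)) := by
        rw [← (A.subgroupOf Cx).index_mul_card]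
        refine Nat.mul_le_mul hAi' (le_trans ?_ hcardA)
        exact (Nat.card_congr (Subgroup.subgroupOfEquivOfLe hAC).toEquiv).le
      -- the preimage of the centraliser
      set Cb := Subgroup.centralizer ({(x : G ⧸ Z)} : Set (G ⧸ Z)) with hCb
      set Nx := Cb.comap (QuotientGroup.mk' Z) with hNx
      have hNcard : Nat.card Nx = Nat.card Cb * Nat.card Z := by
        refine Nat.eq_of_mul_eq_mul_left (Nat.pos_of_ne_zero
          (Subgroup.index_ne_zero_of_finite (H := Nx))) ?_
        rw [Subgroup.index_mul_card, hNx,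
          Subgroup.index_comap_of_surjective _ (QuotientGroup.mk'_surjective Z), ← mul_assoc,
          Subgroup.index_mul_card, ← Subgroup.card_eq_card_quotient_mul_card_subgroup]
      have hscal : ∀ g : Nx, ∃ c : K, c ∈ (Polynomial.nthRoots (finrank K V) (1 : K)).toFinset ∧
          ρ ((g : G) * x * (g : G)⁻¹ * x⁻¹) = c • 1 := by
        intro g
        have hz : (g : G) * x * (g : G)⁻¹ * x⁻¹ ∈ Z := by
          rw [← QuotientGroup.eq_one_iff]
          have h2 := Subgroup.mem_centralizer_singleton_iff.1 (g.2 : QuotientGroup.mk' Z (g : G) ∈ Cb)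
          show QuotientGroup.mk' Z _ = 1
          rw [map_mul, map_mul, map_mul, map_inv, map_inv, show (x : G ⧸ Z) = QuotientGroup.mk' Z x from
            rfl] at *
          rw [h2, mul_inv_cancel_right, mul_inv_cancel]
        obtain ⟨c, hc⟩ := hsc _ hz
        refine ⟨c, ?_, hc⟩
        rw [Multiset.mem_toFinset, Polynomial.mem_nthRoots (Nat.pos_of_ne_zero hsmall)]
        let d : G →* K := (LinearMap.det).comp ρ
        have hd : d ((g : G) * x * (g : G)⁻¹ * x⁻¹) = 1 := by
          rw [map_mul, map_mul, map_mul, mul_right_comm (d g) (d x), ← map_mul, mul_inv_cancel, map_one,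
            one_mul, ← map_mul, mul_inv_cancel, map_one]
        have hd' : LinearMap.det (c • (1 : Module.End K V)) = 1 := by
          rw [← hc]; exact hd
        rwa [LinearMap.det_smul, map_one, mul_one] at hd'
      choose sc hscr hsce using hscal
      have hNC : Cx.relIndex Nx ≤ n₁ := by
        show Nat.card (Nx ⧸ Cx.subgroupOf Nx) ≤ _
        refine (Nat.card_le_card_of_injective
          (fun q => (⟨sc q.out, hscr q.out⟩ : (Polynomial.nthRoots (finrank K V) (1 : K)).toFinset))
          fun q q' h => ?_).trans ?_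
        · rw [← q.out_eq, ← q'.out_eq]
          refine (QuotientGroup.eq.2 ?_).symm
          have h1 : sc q.out = sc q'.out := congrArg Subtype.val h
          have h2 := mul_right_cancel (hρ ((hsce q.out).trans (h1 ▸ (hsce q'.out).symm)))
          show ((q'.out⁻¹ * q.out : Nx) : G) ∈ Cx
          refine Subgroup.mem_centralizer_singleton_iff.2 ?_
          calc ((q'.out : G))⁻¹ * q.out * x
              = (q'.out : G)⁻¹ * ((q.out : G) * x * (q.out : G)⁻¹) * q.out := by simp [mul_assoc]
            _ = x * (((q'.out : G))⁻¹ * q.out) := by rw [h2]; simp [mul_assoc]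
        · rw [Nat.card_eq_finsetCard]
          exact (Multiset.toFinset_card_le _).trans ((Polynomial.card_nthRoots _ _).trans hn)
      have hfin : Nat.card Cb * Nat.card Z ≤ Kb * Nat.card Z := by
        rw [← hNcard, ← (Cx.subgroupOf Nx).index_mul_card]
        refine (Nat.mul_le_mul hNC (le_trans ?_ hcardC)).trans (le_of_eq ?_)
        · exact Nat.card_le_card_of_injective (fun z => (⟨((z : Nx) : G), z.2⟩ : Cx)) fun z z' h =>
            Subtype.ext (Subtype.ext (congrArg (fun w : Cx => (w : G)) h))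
        · rw [hKb]; ring
      exact Nat.le_of_mul_le_mul_right hfin Nat.card_pos
    exact (abelian_of_jordan hP hN hS hC).mono (Nat.le_add_left _ _)

end Cfsg.Agent.JordanBound
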